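import Groth.Agent.CohTwo.LocFreeDual
import Groth.Agent.LocFree.AffineHom

/-!
# Finite locally free modules are reflexive
-/

universe u

open CategoryTheory AlgebraicGeometry Opposite TopologicalSpace
open Groth.PicAux (toFun oneSec Basis')
open Groth.RefRank (secToLin germ_secToLin mod_section_ext)
open Groth.CohTwo.LocFreeDual (dual exists_dual_basis eq_expand_of_pure)
open Groth.QCohMod (germ)

namespace Groth.ProjFormula

local notation "ρ" => Groth.QCohMod.res

variable {X : Scheme.{u}} (E : X.Modules)

theorem secToLin_bidual (V : X.Opens) (m : Γ(E, V)) (θ : Γ(dual E, V)) :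
    secToLin (((RefHull.bidualMap E).app V m : Γ(RefHull.homSh (dual E) (Coh.structureModule X), V))) θ =
      secToLin θ m := by
  refine mod_section_ext (Coh.structureModule X) fun x hx => ?_
  rw [germ_secToLin, germ_secToLin]
  exact congrArg (fun z => z (E.presheaf.germ V x hx m))
    (RefHull.evalStalk_germ E (Coh.structureModule X) x hx θ)

variable {E}

theorem isIso_bidualMap (hE : FlatMod.IsFinLocFree E) : IsIso (RefHull.bidualMap E) := by
  classical
  have : E.IsQuasicoherent := KTheory.LocFree.isQCoh hE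
  have hD : FlatMod.IsFinLocFree (dual E) :=
    LocFree.isFinLocFree_homSh hE (LocFree.isFinLocFree_unit X)
  have : (dual E).IsQuasicoherent := KTheory.LocFree.isQCoh hD
  refine LocFree.isIso_of_small_affine _ fun x W hxW => ?_
  obtain ⟨U, n, s₀, hxU, hs₀⟩ := PicAux.exists_basis_of_isFinLocFree hE x
  obtain ⟨V, hV, hxV, hVU⟩ := exists_isAffineOpen_mem_and_subset (x := x) (U := W ⊓ U) ⟨hxW, hxU⟩
  have hVU' : V ≤ U := fun y hy => (hVU hy).2
  refine ⟨V, hV, hxV, fun y hy => (hVU hy).1, ?_⟩
  have hs := hs₀.res' hVU'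
  set s := fun i => PicAux.res E hVU' (s₀ i)
  obtain ⟨e, he⟩ := exists_dual_basis hs hV
  have hb := hs V le_rfl
  simp only [PicAux.res_self] at hb
  refine ⟨fun m m' h => ?_, fun t => ?_⟩
  · have key : ∀ j, toFun (secToLin (e j) m) = toFun (secToLin (e j) m') := fun j =>
      ((congrArg toFun (secToLin_bidual E V m (e j))).symm.trans
        (congrArg (fun t : Γ(RefHull.homSh (dual E) (Coh.structureModule X), V) =>
          toFun (secToLin t (e j))) h)).trans (congrArg toFun (secToLin_bidual E V m' (e j)))
    obtain ⟨r, rfl⟩ := hb.2 m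
    obtain ⟨r', rfl⟩ := hb.2 m'
    congr 1
    funext j
    have h' := key j
    simp only [map_sum, map_smul] at h'
    let L : Γ(Coh.structureModule X, V) →ₗ[Γ(X, V)] Γ(X, V) :=
      { toFun := toFun, map_add' := fun _ _ => rfl, map_smul' := PicAux.toFun_smul }
    change L (∑ i, r i • secToLin (e j) (s i)) = L (∑ i, r' i • secToLin (e j) (s i)) at h'
    simp only [map_sum, map_smul, show ∀ i, L (secToLin (e j) (s i)) =
      if i = j then 1 else 0 from fun i => he j i, smul_eq_mul, mul_ite, mul_one, mul_zero,
      Finset.sum_ite_eq', Finset.mem_univ, if_true] at h'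
    exact h'
  · let t' : Γ(RefHull.homSh (dual E) (Coh.structureModule X), V) := t
    refine ⟨∑ i, toFun (secToLin t' (e i)) • s i,
      RefRank.secToLin_injective hV (LinearMap.ext fun θ => ?_)⟩
    rw [secToLin_bidual]
    have hθ := eq_expand_of_pure hs he le_rfl hV θ
    conv_rhs => rw [show θ = ∑ i, toFun (secToLin θ (s i)) • e i from hθ.trans (Finset.sum_congr rfl fun i _ => congrArg₂ (fun a b => toFun (secToLin θ a) • b) (PicAux.res_self le_rfl (s i)) (PicAux.res_self le_rfl (e i)))]
    simp only [map_sum, map_smul]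
    refine Finset.sum_congr rfl fun i _ => ?_
    rw [PicAux.eq_toFun_smul_oneSec (secToLin θ (s i)), PicAux.eq_toFun_smul_oneSec (secToLin t' (e i)),
      smul_smul, smul_smul, PicAux.toFun_smul, PicAux.toFun_smul, PicAux.toFun_oneSec, mul_one,
      mul_one, mul_comm]

end Groth.ProjFormula
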