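import Groth.Agent.ProjFormula.Natural
import Groth.Agent.ProjFormula.Bidual
import Groth.Agent.CohTwo.LocFreeExt
import Groth.Prelude.Def_Coh

/-!
# The projection formula in each degree
-/

universe u

open CategoryTheory CategoryTheory.Limits AlgebraicGeometry
open Groth.CohTwo.SheafHomIso (tF)
open Groth.CohTwo.LocFreeExt (flipIso hasSheafHom preservesFinite_tR tR additive_tR)
open Groth.CohTwo.LocFreeDual (dual dualAdj)

namespace Groth.ProjFormula

variable {X Y : Scheme.{u}}

theorem preservesFinite_tF {E : X.Modules} (hE : FlatMod.IsFinLocFree E) :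
    PreservesFiniteLimits (tF E) ∧ PreservesFiniteColimits (tF E) := by
  have := (preservesFinite_tR hE).1
  have := (preservesFinite_tR hE).2
  exact ⟨preservesFiniteLimits_of_natIso (flipIso E), preservesFiniteColimits_of_natIso (flipIso E)⟩

theorem additive_tF (E : X.Modules) : (tF E).Additive :=
  Functor.additive_of_iso (flipIso E)

theorem preservesInjectiveObjects_tF {E : X.Modules} (hE : FlatMod.IsFinLocFree E) :
    (tF E).PreservesInjectiveObjects := by
  have := isIso_bidualMap hE
  have hD : FlatMod.IsFinLocFree (dual E) :=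
    LocFree.isFinLocFree_homSh hE (LocFree.isFinLocFree_unit X)
  have := hasSheafHom (dual E)
  have := (preservesFinite_tF hD).1
  have h := Functor.preservesInjectiveObjects_of_adjunction_of_preservesMonomorphisms (dualAdj hD)
  let e : tF E ≅ tF (dual (dual E)) :=
    (DCoh.tensorBi (X := X)).mapIso (asIso (RefHull.bidualMap E))
  exact ⟨fun {I} hI => Injective.of_iso (e.app I).symm (h.injective_obj hI)⟩

theorem nonempty_rightDerived_postcomp {C D E : Type*} [Category C] [Category D] [Category E]
    [Abelian C] [Abelian D] [Abelian E] [HasInjectiveResolutions C]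
    (A : C ⥤ D) (B : D ⥤ E) [A.Additive] [B.Additive] [PreservesFiniteLimits B]
    [PreservesFiniteColimits B] (i : ℕ) (G : C) :
    Nonempty (((A ⋙ B).rightDerived i).obj G ≅ B.obj ((A.rightDerived i).obj G)) :=
  ⟨(injectiveResolution G).isoRightDerivedObj (A ⋙ B) i ≪≫
    (HomologicalComplex.homologyFunctor E _ i).mapIso
      (HomologicalComplex.Hom.isoOfComponents (fun _ => Iso.refl _)
        (fun _ _ _ => (Category.id_comp _).trans (Category.comp_id _).symm) :
          ((A ⋙ B).mapHomologicalComplex (ComplexShape.up ℕ)).obj (injectiveResolution G).cocomplex ≅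
            (B.mapHomologicalComplex _).obj
              ((A.mapHomologicalComplex _).obj (injectiveResolution G).cocomplex)) ≪≫
    (((A.mapHomologicalComplex _).obj (injectiveResolution G).cocomplex).sc i).mapHomologyIso B ≪≫
    B.mapIso ((injectiveResolution G).isoRightDerivedObj A i).symm⟩

theorem nonempty_projectionFormula (f : X ⟶ Y) [HasInjectiveResolutions X.Modules]
    (F : X.Modules) (E : Y.Modules) (hE : FlatMod.IsFinLocFree E) (q : ℕ) :
    Nonempty (CohB1.tensorMod E ((Coh.Rpush f q).obj F) ≅
      (Coh.Rpush f q).obj (CohB1.tensorMod ((Scheme.Modules.pullback f).obj E) F)) := by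
  have hE' : FlatMod.IsFinLocFree ((Scheme.Modules.pullback f).obj E) :=
    LocFree.isFinLocFree_pullback f hE
  have := additive_tF E
  have := additive_tF ((Scheme.Modules.pullback f).obj E)
  have := (preservesFinite_tF hE).1
  have := (preservesFinite_tF hE).2
  have := (preservesFinite_tF hE').1
  have := (preservesFinite_tF hE').2
  have := preservesInjectiveObjects_tF hE'
  obtain ⟨a⟩ := nonempty_rightDerived_postcomp (Scheme.Modules.pushforward f) (tF E) q F
  let h := pfIso f E hE
  let b : ((Scheme.Modules.pushforward f ⋙ tF E).rightDerived q) ≅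
      ((tF ((Scheme.Modules.pullback f).obj E) ⋙ Scheme.Modules.pushforward f).rightDerived q) :=
    { hom := NatTrans.rightDerived h.hom q
      inv := NatTrans.rightDerived h.inv q
      hom_inv_id := by
        rw [← NatTrans.rightDerived_comp, Iso.hom_inv_id, NatTrans.rightDerived_id]
      inv_hom_id := by
        rw [← NatTrans.rightDerived_comp, Iso.inv_hom_id, NatTrans.rightDerived_id] }
  exact ⟨a.symm ≪≫ b.app F ≪≫ (LocCohZBase.DerivedComp.rightDerivedCompIso
    (tF ((Scheme.Modules.pullback f).obj E)) (Scheme.Modules.pushforward f) q).app F⟩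

end Groth.ProjFormula
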