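import Groth.Agent.ProjFormula.TensorBasis
import Groth.Agent.CohTwo.SheafHomIso

/-!
# The projection formula map `E ⊗ f_* F ⟶ f_* (f^*E ⊗ F)`
-/

universe u

open CategoryTheory AlgebraicGeometry Opposite TopologicalSpace
open Groth.PicAux
open Groth.CohTwo.SheafHomIso (tF tF_map_tmulSec)

namespace Groth.ProjFormula

variable {X Y : Scheme.{u}} (f : X ⟶ Y) (E : Y.Modules)

theorem pullSec_add' {U : Y.Opens} (a a' : Γ(E, U)) :
    pullSec f E (a + a') = pullSec f E a + pullSec f E a' :=
  map_add (((Scheme.Modules.pullbackPushforwardAdjunction f).unit.app E).app U).hom a a'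

/-- A section of `f_* F` over `W` seen as a section of `F` over `f⁻¹W`. -/
abbrev downSec (F : X.Modules) {W : Y.Opens} (g : Γ((Scheme.Modules.pushforward f).obj F, W)) :
    Γ(F, f ⁻¹ᵁ W) := g

/-- `a ⊗ g ↦ f^*a ⊗ g`. -/
noncomputable def pfPair (F : X.Modules) {W : Y.Opens} (a : Γ(E, W))
    (g : Γ((Scheme.Modules.pushforward f).obj F, W)) :
    Γ((Scheme.Modules.pushforward f).obj
      (CohB1.tensorMod ((Scheme.Modules.pullback f).obj E) F), W) :=
  (tmulSec (pullSec f E a) (downSec f F g) :
    Γ(CohB1.tensorMod ((Scheme.Modules.pullback f).obj E) F, f ⁻¹ᵁ W))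

variable {F : X.Modules} {W : Y.Opens}

theorem pfPair_add_left (a a' : Γ(E, W)) (g : Γ((Scheme.Modules.pushforward f).obj F, W)) :
    pfPair f E F (a + a') g = pfPair f E F a g + pfPair f E F a' g := by
  unfold pfPair
  rw [pullSec_add', tmulSec_add_left]
  rfl

theorem pfPair_add_right (a : Γ(E, W)) (g g' : Γ((Scheme.Modules.pushforward f).obj F, W)) :
    pfPair f E F a (g + g') = pfPair f E F a g + pfPair f E F a g' :=
  tmulSec_add_right (pullSec f E a) (downSec f F g) (downSec f F g')

theorem pfPair_smul_left (r : Γ(Y, W)) (a : Γ(E, W))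
    (g : Γ((Scheme.Modules.pushforward f).obj F, W)) :
    pfPair f E F (r • a) g = r • pfPair f E F a g := by
  unfold pfPair
  rw [pullSec_smul, tmulSec_smul_left]
  rfl

theorem pfPair_smul_right (r : Γ(Y, W)) (a : Γ(E, W))
    (g : Γ((Scheme.Modules.pushforward f).obj F, W)) :
    pfPair f E F a (r • g) = r • pfPair f E F a g :=
  tmulSec_smul_right (f.app W r) (pullSec f E a) (downSec f F g)

theorem res_pfPair {W' : Y.Opens} (h : W' ≤ W) (a : Γ(E, W))
    (g : Γ((Scheme.Modules.pushforward f).obj F, W)) :
    res _ h (pfPair f E F a g) = pfPair f E F (res E h a) (res _ h g) := by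
  unfold pfPair
  rw [← res_pullSec]
  exact res_tmulSec (f.preimage_mono h) (pullSec f E a) (downSec f F g)

theorem exists_pfHom (F : X.Modules) :
    ∃ φ : CohB1.tensorMod E ((Scheme.Modules.pushforward f).obj F) ⟶
        (Scheme.Modules.pushforward f).obj (CohB1.tensorMod ((Scheme.Modules.pullback f).obj E) F),
      ∀ W (a : Γ(E, W)) (g : Γ((Scheme.Modules.pushforward f).obj F, W)),
        φ.app W (tmulSec a g) = pfPair f E F a g :=
  exists_tensor_lift
    (fun W => LinearMap.mk₂ Γ(Y, W) (pfPair f E F) (pfPair_add_left f E) (pfPair_smul_left f E)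
      (pfPair_add_right f E) (pfPair_smul_right f E))
    (fun W W' h a b => res_pfPair f E h a b)

/-- The projection formula map. -/
noncomputable def pfApp (F : X.Modules) :
    CohB1.tensorMod E ((Scheme.Modules.pushforward f).obj F) ⟶
      (Scheme.Modules.pushforward f).obj (CohB1.tensorMod ((Scheme.Modules.pullback f).obj E) F) :=
  (exists_pfHom f E F).choose

theorem pfApp_tmul (F : X.Modules) (W : Y.Opens) (a : Γ(E, W))
    (g : Γ((Scheme.Modules.pushforward f).obj F, W)) :
    (pfApp f E F).app W (tmulSec a g) = pfPair f E F a g :=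
  (exists_pfHom f E F).choose_spec W a g

theorem isIso_pfApp (hE : FlatMod.IsFinLocFree E) (F : X.Modules) : IsIso (pfApp f E F) := by
  choose U n e hxU he using exists_basis_of_isFinLocFree hE
  refine isIso_of_cover (U := U) (eq_top_iff.2 fun y _ => Opens.mem_iSup.2 ⟨y, hxU y⟩) _
    fun i V hV => ?_
  have h1 := tsum_bijective (M := F) ((he i).pull f) (f.preimage_mono hV)
  have h2 := tsum_bijective (M := (Scheme.Modules.pushforward f).obj F) (he i) hV
  refine (Function.Bijective.of_comp_iff _ h2).1 ?_
  have : ((pfApp f E F).app V : Γ(CohB1.tensorMod E ((Scheme.Modules.pushforward f).obj F), V) → _) ∘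
      tsum (e i) hV = tsum (M := F) (fun j => pullSec f E (e i j)) (f.preimage_mono hV) := by
    funext g
    show (pfApp f E F).app V (∑ j, _) = ∑ j, _
    refine (map_sum ((pfApp f E F).app V).hom _ _).trans (Finset.sum_congr rfl fun j _ => ?_)
    refine (pfApp_tmul f E F V _ _).trans ?_
    rw [res_pullSec]
    rfl
  rw [this]
  exact h1

theorem map_pfPair {F F' : X.Modules} (φ : F ⟶ F') {W : Y.Opens} (a : Γ(E, W))
    (g : Γ((Scheme.Modules.pushforward f).obj F, W)) :
    ((Scheme.Modules.pushforward f).map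
        ((tF ((Scheme.Modules.pullback f).obj E)).map φ)).app W (pfPair f E F a g) =
      pfPair f E F' a (((Scheme.Modules.pushforward f).map φ).app W g) :=
  tF_map_tmulSec φ (f ⁻¹ᵁ W) (pullSec f E a) (downSec f F g)

theorem pfApp_natural {F F' : X.Modules} (φ : F ⟶ F') :
    (tF E).map ((Scheme.Modules.pushforward f).map φ) ≫ pfApp f E F' =
      pfApp f E F ≫ (Scheme.Modules.pushforward f).map
        ((tF ((Scheme.Modules.pullback f).obj E)).map φ) := by
  refine tensor_hom_ext fun W a g => ?_
  refine (congrArg ((pfApp f E F').app W)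
    (tF_map_tmulSec ((Scheme.Modules.pushforward f).map φ) W a g)).trans ?_
  refine (pfApp_tmul f E F' W a _).trans ?_
  refine Eq.trans ?_ (congrArg (((Scheme.Modules.pushforward f).map
    ((tF ((Scheme.Modules.pullback f).obj E)).map φ)).app W) (pfApp_tmul f E F W a g)).symm
  exact (map_pfPair f E φ a g).symm

/-- The projection formula as an isomorphism of functors. -/
noncomputable def pfIso (hE : FlatMod.IsFinLocFree E) :
    Scheme.Modules.pushforward f ⋙ tF E ≅
      tF ((Scheme.Modules.pullback f).obj E) ⋙ Scheme.Modules.pushforward f :=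
  NatIso.ofComponents (fun F => @asIso _ _ _ _ (pfApp f E F) (isIso_pfApp f E hE F))
    fun φ => pfApp_natural f E φ

end Groth.ProjFormula
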