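import Groth.Agent.PicAux.FreeBasis
import Groth.Agent.PicAux.TensorLift

/-!
# Sections of a tensor product with a module that has a finite basis
-/

universe u

open CategoryTheory AlgebraicGeometry Opposite TopologicalSpace
open Groth.PicAux

namespace Groth.ProjFormula

variable {X : Scheme.{u}} {L M : X.Modules} {n : ℕ} {U : X.Opens} {s : Fin n → Γ(L, U)}

theorem exists_coord (hs : Basis' L U s) {W : X.Opens} (h : W ≤ U) :
    ∃ c : Γ(L, W) →ₗ[Γ(X, W)] (Fin n → Γ(X, W)),
      (∀ a, ∑ i, c a i • res L h (s i) = a) ∧ ∀ j i, c (res L h (s j)) i = (Pi.single j 1 : Fin n → Γ(X, W)) i := by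
  classical
  let E : (Fin n → Γ(X, W)) ≃ₗ[Γ(X, W)] Γ(L, W) :=
    LinearEquiv.ofBijective (Fintype.linearCombination Γ(X, W) fun i => res L h (s i))
      (by convert hs W h using 1; funext r; exact Fintype.linearCombination_apply _ _ _)
  refine ⟨E.symm, fun a => ?_, fun j i => ?_⟩
  · conv_rhs => rw [← E.apply_symm_apply a]
    exact (Fintype.linearCombination_apply _ _ _).symm
  · have : E.symm (res L h (s j)) = Pi.single j 1 := by
      rw [LinearEquiv.symm_apply_eq]
      simp [E]
    exact congrFun this i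

/-- `g ↦ ∑ sᵢ ⊗ gᵢ`. -/
noncomputable def tsum (s : Fin n → Γ(L, U)) {W : X.Opens} (h : W ≤ U) (g : Fin n → Γ(M, W)) :
    Γ(CohB1.tensorMod L M, W) :=
  ∑ i, tmulSec (res L h (s i)) (g i)

theorem res_tsum {W W' : X.Opens} (h : W ≤ U) (h' : W' ≤ W) (g : Fin n → Γ(M, W)) :
    res _ h' (tsum s h g) = tsum s (h'.trans h) (fun i => res M h' (g i)) := by
  simp only [tsum]
  rw [res_sum]
  simp only [res_tmulSec, res_res]

theorem pten_eq_sum (hs : Basis' L U s) {W : X.Opens} (h : W ≤ U) (p : PTen L M W) :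
    ∃ g : Fin n → Γ(M, W), p = ∑ i, res L h (s i) ⊗ₜ g i := by
  obtain ⟨c, hc, -⟩ := exists_coord hs h
  induction p using TensorProduct.induction_on with
  | zero => exact ⟨0, by simp⟩
  | add p q hp hq =>
    obtain ⟨a, ha⟩ := hp
    obtain ⟨b, hb⟩ := hq
    refine ⟨a + b, ?_⟩
    rw [ha, hb, ← Finset.sum_add_distrib]
    simp [TensorProduct.tmul_add]
  | tmul a t =>
    refine ⟨fun i => c a i • t, ?_⟩
    conv_lhs => rw [← hc a]
    rw [TensorProduct.sum_tmul]
    simp [TensorProduct.smul_tmul]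

theorem pten_sum_inj (hs : Basis' L U s) {W : X.Opens} (h : W ≤ U) {g g' : Fin n → Γ(M, W)}
    (he : ∑ i, res L h (s i) ⊗ₜ[Γ(X, W)] g i = ∑ i, res L h (s i) ⊗ₜ[Γ(X, W)] g' i) : g = g' := by
  obtain ⟨c, -, hc⟩ := exists_coord hs h
  funext j
  have := congrArg (TensorProduct.lift
    (((LinearMap.lsmul Γ(X, W) Γ(M, W)).comp ((LinearMap.proj j).comp c)))) he
  simpa [map_sum, hc, Pi.single_apply, ite_smul] using this

theorem tsum_bijective (hs : Basis' L U s) {V : X.Opens} (hV : V ≤ U) :
    Function.Bijective (tsum (M := M) s hV) := by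
  have hinj : ∀ (W : X.Opens) (hW : W ≤ U) (g g' : Fin n → Γ(M, W)),
      tsum s hW g = tsum s hW g' → g = g' := by
    intro W hW g g' e
    have e' : ptenUnit L M W (∑ i, res L hW (s i) ⊗ₜ g i) =
        ptenUnit L M W (∑ i, res L hW (s i) ⊗ₜ g' i) := by
      simp only [map_sum]; exact e
    choose W' hW' hxW' hres using fun x : (W : Type u) =>
      ptenUnit_locally_injective L M W _ _ e' x.1 x.2
    funext j
    refine res_ext W' hW' (fun x hx => Opens.mem_iSup.2 ⟨⟨x, hx⟩, hxW' ⟨x, hx⟩⟩) fun x => ?_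
    refine congrFun (pten_sum_inj hs ((hW' x).trans hW)
      (g := fun i => res M (hW' x) (g i)) (g' := fun i => res M (hW' x) (g' i)) ?_) j
    simpa only [map_sum, ptenRes_tmul, res_res] using hres x
  refine ⟨fun g g' => hinj V hV g g', fun t => ?_⟩
  choose W hW p hxW hp using fun x : (V : Type u) => ptenUnit_locally_surjective L M V t x.1 x.2
  choose g hg using fun x => pten_eq_sum hs ((hW x).trans hV) (p x)
  have key : ∀ x, res _ (hW x) t = tsum s ((hW x).trans hV) (g x) := fun x => by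
    rw [← hp, hg]; simp only [tsum, map_sum]; rfl
  have hcover : V ≤ iSup W := fun x hx => Opens.mem_iSup.2 ⟨⟨x, hx⟩, hxW ⟨x, hx⟩⟩
  have hcompat : ∀ j x x', res M (inf_le_left : W x ⊓ W x' ≤ W x) (g x j) =
      res M (inf_le_right : W x ⊓ W x' ≤ W x') (g x' j) := by
    intro j x x'
    refine congrFun (hinj _ ((inf_le_left.trans (hW x)).trans hV)
      (fun i => res M inf_le_left (g x i)) (fun i => res M inf_le_right (g x' i)) ?_) j
    rw [← res_tsum ((hW x).trans hV) inf_le_left, ← key, res_res]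
    exact (res_res (hW x') inf_le_right t).symm.trans
      ((congrArg _ (key x')).trans (res_tsum _ _ _))
  choose r hr _hu using fun j => res_glue W hW hcover (fun x => g x j) (hcompat j)
  refine ⟨r, res_ext W hW hcover fun x => ?_⟩
  rw [key x, res_tsum]
  simp only [hr]

end Groth.ProjFormula
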